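import Cfsg.Agent.H276.HM.Sec
import Cfsg.Agent.H756.HM.Stmts
import Cfsg.Agent.H258.Final
import Cfsg.Agent.H273.PMinimal
import Cfsg.Agent.H11.CharJoin

/-!
# S5175, T3: the blocks of a 2-minimal group in which no characteristic subgroup of `T` is normal
-/

set_option autoImplicit false
set_option linter.unusedSectionVars false

namespace Cfsg.Agent.H276.HM

open Subgroup Cfsg Cfsg.Agent.H258.Finish Cfsg.Agent.H258.Bau Cfsg.Agent.H259.Block Cfsg.Agent.H756.HM
open Matrix (SpecialLinearGroup)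
open scoped commutatorElement

universe u

variable {P : Type u} [Group P] [Finite P] {T : Sylow 2 P}

section block

variable {E : Subgroup P} (hG : centralizer (pCore 2 P : Set P) ≤ pCore 2 P)
  (hE : IsBaumannBlock 2 (T : Subgroup P) E)

include hE in
theorem core_eq_ww : pCoreOf 2 E = ww 2 E := (dich hE).resolve_right fun h => by omega

include hE in
theorem core_eq_we : pCoreOf 2 E = we 2 E := by
  conv_lhs => rw [← hE.2.2.1]
  rw [core_eq_ww hE]
  rfl

include hG hE in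
theorem core_le : pCoreOf 2 E ≤ omegaOneCenter 2 (pCore 2 P) := by
  have : Fact (Nat.Prime 2) := ⟨Nat.prime_two⟩
  rw [core_eq_we hE]
  exact we_le hG T E hE

include hG hE in
theorem core_eq : pCoreOf 2 E = ⁅pCore 2 P, E⁆ := by
  have : Fact (Nat.Prime 2) := ⟨Nat.prime_two⟩
  apply le_antisymm
  · rw [← hE.2.2.1]
    exact commutator_mono ((core_le hG hE).trans (omegaOneCenter_le _)) le_rfl
  · exact Cfsg.Agent.H258.Cg.comm_P_le hG hE

include hG hE in
theorem not_cent : ¬ ⁅pCore 2 P, E⁆ ≤ centralizer (E : Set P) := by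
  have : Fact (Nat.Prime 2) := ⟨Nat.prime_two⟩
  rw [← core_eq hG hE, core_eq_we hE]
  exact we_not_le hG T E hE

theorem mem_core {E : Subgroup P} (x : ↥E) : (x : P) ∈ pCoreOf 2 E ↔ x ∈ pCore 2 ↥E := by
  constructor
  · rintro ⟨y, hy, hyx⟩
    have : y = x := Subtype.ext hyx
    rw [← this]; exact hy
  · intro h; exact ⟨x, h, rfl⟩

/-- the type of a block -/
theorem typ (hG : centralizer (pCore 2 P : Set P) ≤ pCore 2 P) (hE : IsBaumannBlock 2 (T : Subgroup P) E)
    (hdeg : Deg 2 E) :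
    (∃ (K : Type) (_ : Field K) (_ : Fintype K) (n : ℕ), 2 ≤ n ∧ Fintype.card K = 2 ^ n ∧
      SecL K ⊤ E ⁅pCore 2 P, E⁆) ∨
    (∃ m : ℕ, 1 ≤ m ∧ (∃ k : ℕ, 2 * m = 2 ^ k) ∧ SecS (2 * m + 1) E ⁅pCore 2 P, E⁆) := by
  have : Fact (Nat.Prime 2) := ⟨Nat.prime_two⟩
  rw [← core_eq hG hE]
  have hab : ∀ x ∈ pCoreOf 2 E, ∀ y ∈ pCoreOf 2 E, x * y = y * x := fun x hx y hy =>
    (mem_omegaOneCenter.1 (core_le hG hE hx)).2.1 y (omegaOneCenter_le _ (core_le hG hE hy))
  have hww : omegaOneCenter 2 (pCoreOf 2 E) = pCoreOf 2 E := (core_eq_ww hE).symm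
  obtain ⟨h1, h2, h3, h4, h5⟩ := hE
  rw [hww] at h5
  rcases h5 with ⟨F, iF, iFF, n, hn, hq, hsec, -⟩ | ⟨-, m, hq, hsec, -⟩
  · have hL := secL_of mem_core hab hq hsec
    rcases Nat.lt_or_ge n 2 with hn2 | hn2
    · right
      refine ⟨1, le_rfl, ⟨1, rfl⟩, ?_⟩
      have hn1 : n = 1 := by
        rcases Nat.eq_zero_or_pos n with h0 | h0
        · have h8 : 1 < Fintype.card F := Fintype.one_lt_card
          rw [hn, h0, pow_zero] at h8
          exact absurd h8 (lt_irrefl _)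
        · omega
      have hc : Fintype.card F = Fintype.card (ZMod 2) := by rw [hn, hn1, ZMod.card, pow_one]
      exact (hL.transport (FiniteField.ringEquivOfCardEq hc)).two
    · left
      refine ⟨F, iF, iFF, n, hn2, hn, ?_⟩
      have h3 : 3 < Fintype.card F := by
        rw [hn]
        calc 3 < 2 ^ 2 := by norm_num
          _ ≤ 2 ^ n := Nat.pow_le_pow_right (by norm_num) hn2
      rw [← Cfsg.Agent.H259.NatMod.commutator_eq_top h3]
      exact hL
  · right
    have hm : 1 ≤ m := by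
      by_contra hcon
      have h0 : m = 0 := by omega
      subst h0
      obtain ⟨e⟩ := hq
      have hn : (pCore 2 ↥E).Normal := Lib.Cores.pCore_normal 2
      have hsub : Subsingleton (↥E ⧸ pCore 2 ↥E) := by
        have h6 : Subsingleton (Equiv.Perm (Fin (2 * 0 + 1))) := inferInstanceAs (Subsingleton (Equiv.Perm (Fin 1)))
        have h7 : Subsingleton ↥(alternatingGroup (Fin (2 * 0 + 1))) := ⟨fun a b => Subtype.ext (h6.elim _ _)⟩
        exact e.toEquiv.subsingleton
      have htop : pCore 2 ↥E = ⊤ := by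
        rw [eq_top_iff]
        intro x _
        rw [← QuotientGroup.eq_one_iff]
        exact Subsingleton.elim _ _
      have h8 : IsPGroup 2 ↥E := by
        have h9 : IsPGroup 2 (pCore 2 ↥E) := Lib.Cores.pCore_isPGroup 2
        rw [htop] at h9
        exact h9.of_equiv Subgroup.topEquiv
      have h10 : E = ⊥ := by
        rw [← h1, eq_bot_iff, Cfsg.Agent.H258.Comm.pResidualOf_eq_closure, closure_le]
        rintro x ⟨hx, ho⟩
        exact Cfsg.Agent.H258.Sub.eq_one_of_coprime h8 hx ho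
      apply h4
      rw [h10, commutator_bot_left]
    obtain ⟨k, hk⟩ := hdeg m hq
    exact ⟨m, hm, ⟨k, Nat.add_right_cancel hk⟩, secS_of hm mem_core hab hq hsec⟩

end block

/-- transport of the type to a conjugate -/
theorem comm_cg' (t : P) (E : Subgroup P) : ⁅pCore 2 P, cg t E⁆ = cg t ⁅pCore 2 P, E⁆ := by
  have hn : (pCore 2 P).Normal := Lib.Cores.pCore_normal 2
  rw [← Cfsg.Agent.H258.Cg.comm_cg, Cfsg.Agent.H258.Cg.cg_normal hn]

theorem comm_le_iff {Q V A : Subgroup P} [V.Normal] :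
    ⁅Q, A⁆ ≤ V ↔ A ≤ (centralizer (Q.map (QuotientGroup.mk' V) : Set (P ⧸ V))).comap (QuotientGroup.mk' V) := by
  rw [← Subgroup.map_le_iff_le_comap, ← Subgroup.commutator_eq_bot_iff_le_centralizer, commutator_comm,
    ← Subgroup.map_commutator, Subgroup.map_eq_bot_iff, QuotientGroup.ker_mk']

theorem comm_sSup_le {Q V : Subgroup P} [V.Normal] {𝓑 : Set (Subgroup P)} (h : ∀ E ∈ 𝓑, ⁅Q, E⁆ ≤ V) :
    ⁅Q, sSup 𝓑⁆ ≤ V := by
  rw [comm_le_iff]
  exact sSup_le fun E hE => comm_le_iff.1 (h E hE)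

/-- **T3** -/
theorem stBlk : StBlk.{u} := by
  intro P _ _ T hmin hG hnc
  have hp : Fact (Nat.Prime 2) := ⟨Nat.prime_two⟩
  have hTne : (T : Subgroup P) ≠ ⊥ := by
    intro h1
    apply (hmin T).1
    rw [h1]
    exact inferInstance
  have hnc' : ∀ C : Subgroup P, C ≤ (T : Subgroup P) → C ≠ ⊥ → (C.subgroupOf (T : Subgroup P)).Characteristic →
      ¬ C.Normal := by
    intro C hC h1 h2 h3
    have h4 : (C.subgroupOf (T : Subgroup P)).map (T : Subgroup P).subtype = C := by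
      rw [subgroupOf_map_subtype, inf_eq_left.2 hC]
    refine hnc _ h2 ?_ (by rw [h4]; exact h3)
    intro h5
    rw [h5, Subgroup.map_bot] at h4
    exact h1 h4.symm
  have hz : ¬ (omegaOneCenter 2 (T : Subgroup P)).Normal :=
    hnc' _ (omegaOneCenter_le _) (Cfsg.Agent.H11.CharJoin.omegaOneCenter_ne_bot T.2 hTne)
      (Cfsg.Agent.H11.CharJoin.char_omegaOneCenter 2 _)
  have hchar : ∀ C : Subgroup P, C ≤ baumannSubgroupOf 2 (T : Subgroup P) → C ≠ ⊥ →
      (C.subgroupOf (baumannSubgroupOf 2 (T : Subgroup P))).Characteristic → ¬ C.Normal := fun C hC h1 h2 =>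
    hnc' C (hC.trans (baumannSubgroupOf_le _)) h1
      (Cfsg.Agent.H11.CharJoin.char_trans hC (baumannSubgroupOf_le _) h2 (Cfsg.Agent.H11.CharJoin.char_baumann 2 _))
  obtain ⟨B, 𝓑, ⟨hb, hconj, hcomm, htop, -, -, -⟩, hdeg, hC, horb, hB, -⟩ :=
    Cfsg.Agent.H258.Final.main hmin hG T hchar hz
  obtain ⟨K, hK⟩ : ∃ K, K = sSup 𝓑 := ⟨_, rfl⟩
  have hQn : (pCore 2 P).Normal := Lib.Cores.pCore_normal 2
  have hVn : (omegaOneCenter 2 (pCore 2 P)).Normal := omegaOneCenter_normal hQn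
  have hKn : K.Normal := by
    refine ⟨fun x hx g => ?_⟩
    have h1 : cg g K ≤ K := by
      rw [hK]
      show (sSup 𝓑).map _ ≤ _
      rw [Subgroup.map_le_iff_le_comap]
      refine sSup_le fun E hE => ?_
      rw [← Subgroup.map_le_iff_le_comap]
      exact le_sSup (hconj E hE g)
    exact h1 ⟨x, hx, rfl⟩
  have hTK : (T : Subgroup P) ⊔ K = ⊤ := by
    rw [eq_top_iff, ← htop, hC, ← hK]
    exact sup_le (sup_le (inf_le_right.trans le_sup_right) le_sup_left) le_sup_right
  -- `O²(P) = K`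
  have hres : pResidual 2 P = K := by
    apply le_antisymm
    · apply Transfer.Residual.pResidual_le_of_isPGroup_quotient
      have h1 : ((T : Subgroup P).map (QuotientGroup.mk' K)) = ⊤ := by
        have h2 := congrArg (Subgroup.map (QuotientGroup.mk' K)) hTK
        rw [Subgroup.map_sup, QuotientGroup.map_mk'_self, sup_bot_eq, Subgroup.map_top_of_surjective _
          (QuotientGroup.mk'_surjective K)] at h2
        exact h2
      have h2 : IsPGroup 2 ((T : Subgroup P).map (QuotientGroup.mk' K)) := T.isPGroup'.map _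
      rw [h1] at h2
      exact h2.of_equiv Subgroup.topEquiv
    · rw [hK]
      refine sSup_le fun E hE => ?_
      rw [← (hb E hE).1]
      exact Transfer.Residual.pResidual_subgroup_le 2 E
  -- `W ≤ Ω₁(Z(Q))`
  have hWV : ⁅pCore 2 P, K⁆ ≤ omegaOneCenter 2 (pCore 2 P) := by
    rw [hK]
    refine comm_sSup_le fun E hE => ?_
    rw [← core_eq hG (hb E hE)]
    exact core_le hG (hb E hE)
  obtain ⟨W, hW⟩ : ∃ W, W = ⁅pCore 2 P, K⁆ := ⟨_, rfl⟩
  have hWn : W.Normal := by rw [hW]; exact Subgroup.commutator_normal _ _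
  have hBK : ∀ E ∈ 𝓑, E ≤ K := fun E hE => by rw [hK]; exact le_sSup hE
  have hQB : ∀ E ∈ 𝓑, ⁅pCore 2 P, E⁆ ≤ W := fun E hE => by
    rw [hW]; exact commutator_mono le_rfl (hBK E hE)
  have hper : ∀ E ∈ 𝓑, ⁅⁅pCore 2 P, E⁆, E⁆ = ⁅pCore 2 P, E⁆ := by
    intro E hE
    rw [← core_eq hG (hb E hE)]
    exact (hb E hE).2.2.1
  have key : ∀ N : Subgroup P, N.Normal → ¬ K ≤ N → ∀ t ∈ (T : Subgroup P), t ∈ N → t ∈ pCore 2 P := by
    intro N hN hKN t ht htN
    rcases Cfsg.Agent.H273.PMinimal.dichotomy hmin T N with h1 | ⟨h1, -⟩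
    · exact Lib.Cores.le_pCore h1 (T.2.to_le inf_le_left) ⟨ht, htN⟩
    · rw [hres] at h1
      exact absurd h1 hKN
  have hCn : (centralizer (W : Set P)).Normal := inferInstance
  have hC1 : ¬ K ≤ centralizer (W : Set P) := by
    intro h1
    refine not_cent hG (hb B hB) fun x hx b hb' => ?_
    exact (h1 (hBK B hB hb') x (hQB B hB hx)).symm
  have hZn : (W ⊓ centralizer (K : Set P)).Normal := Subgroup.normal_inf_normal W _
  have hC2 : ¬ K ≤ (centralizer (W.map (QuotientGroup.mk' (W ⊓ centralizer (K : Set P))) :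
      Set (P ⧸ (W ⊓ centralizer (K : Set P))))).comap (QuotientGroup.mk' (W ⊓ centralizer (K : Set P))) := by
    intro h1
    have h2 : ⁅W, K⁆ ≤ W ⊓ centralizer (K : Set P) := comm_le_iff.2 h1
    refine not_cent hG (hb B hB) ?_
    rw [← hper B hB]
    refine (commutator_mono (hQB B hB) (hBK B hB)).trans (h2.trans (inf_le_right.trans ?_))
    exact centralizer_le (hBK B hB)
  have hbw : BW (T : Subgroup P) := by
    refine ⟨?_, ?_, ?_⟩
    · rw [hres]
      intro w hw g hg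
      exact (mem_omegaOneCenter.1 (hWV hw)).2.1 g hg
    · rw [hres]
      intro w hw
      exact (mem_omegaOneCenter.1 (hWV hw)).2.2
    · rw [hres, ← hW]
      apply le_antisymm
      · rintro t ⟨ht, htC⟩
        exact key _ hCn hC1 t ht htC
      · refine le_inf (Cfsg.Agent.Lib.Cores.pCore_le_sylow T) ?_
        intro g hg w hw
        rw [hW] at hw
        exact (mem_omegaOneCenter.1 (hWV hw)).2.1 g hg
  -- the index set
  obtain ⟨n, ⟨e⟩⟩ : ∃ n, Nonempty (↥𝓑 ≃ Fin n) := Finite.exists_equiv_fin ↥𝓑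
  have hEB : ∀ i : Fin n, ((e.symm i : ↥𝓑) : Subgroup P) ∈ 𝓑 := fun i => (e.symm i).2
  refine ⟨{
    I := Fin n
    fin := inferInstance
    ne := ⟨e ⟨B, hB⟩⟩
    E := fun i => ((e.symm i : ↥𝓑) : Subgroup P)
    inj := fun i j h => e.symm.injective (Subtype.ext h)
    comm := fun i j h => hcomm _ (hEB i) _ (hEB j) fun h1 => h (e.symm.injective (Subtype.ext h1))
    sup := ?_
    perm := ?_
    trans := ?_
    core := fun i => core_eq hG (hb _ (hEB i))
    perf := fun i => hper _ (hEB i)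
    two := fun i => (hb _ (hEB i)).1
    bw := hbw
    faith := ?_
    typ := ?_ }⟩
  · rw [hres, hK]
    apply le_antisymm
    · exact iSup_le fun i => le_sSup (hEB i)
    · refine sSup_le fun E hE => ?_
      have h1 := le_iSup (fun i => ((e.symm i : ↥𝓑) : Subgroup P)) (e ⟨E, hE⟩)
      simpa using h1
  · intro t _ i
    exact ⟨e ⟨_, hconj _ (hEB i) t⟩, by simp⟩
  · intro i j
    obtain ⟨s, hs, hs'⟩ := horb _ (hEB i)
    obtain ⟨r, hr, hr'⟩ := horb _ (hEB j)
    refine ⟨r * s⁻¹, mul_mem hr (inv_mem hs), ?_⟩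
    show cg (r * s⁻¹) _ = _
    rw [hs', hr', cg_mul, inv_mul_cancel_right]
  · intro t ht h1
    rw [hres, ← hW] at h1
    have hWm : (W.map (QuotientGroup.mk' (W ⊓ centralizer (K : Set P)))).Normal :=
      hWn.map _ (QuotientGroup.mk'_surjective _)
    have hCm : (centralizer (W.map (QuotientGroup.mk' (W ⊓ centralizer (K : Set P))) :
      Set (P ⧸ (W ⊓ centralizer (K : Set P))))).Normal := inferInstance
    refine key _ (hCm.comap _) hC2 t ht ?_
    rw [Subgroup.mem_comap]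
    rintro _ ⟨w, hw, rfl⟩
    have h2 : ⁅t, w⁆ ∈ W ⊓ centralizer (K : Set P) := by
      refine Subgroup.mem_inf.2 ⟨?_, h1 w hw⟩
      rw [commutatorElement_def]
      exact mul_mem (hWn.conj_mem w hw t) (inv_mem hw)
    have h3 : QuotientGroup.mk' (W ⊓ centralizer (K : Set P)) ⁅t, w⁆ = 1 := (QuotientGroup.eq_one_iff _).2 h2
    rw [map_commutatorElement, commutatorElement_eq_one_iff_mul_comm] at h3
    exact h3.symm
  · rcases typ hG (hb B hB) (hdeg B hB) with ⟨F, iF, iFF, m, hm, hF, h1⟩ | ⟨m, hm, hk, h1⟩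
    · left
      refine ⟨F, iF, iFF, m, hm, hF, fun i => ?_⟩
      obtain ⟨s, hs, hs'⟩ := horb _ (hEB i)
      have h2 := h1.conj s
      rw [← comm_cg', ← hs'] at h2
      obtain ⟨ρ, ψ, h3, h4⟩ := h2
      exact ⟨ρ, ψ, MonoidHom.range_eq_top.1 h3, h4⟩
    · right
      refine ⟨m, hm, hk, fun i => ?_⟩
      obtain ⟨s, hs, hs'⟩ := horb _ (hEB i)
      have h2 := h1.conj s
      rw [← comm_cg', ← hs'] at h2
      exact h2


end Cfsg.Agent.H276.HM
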