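import Cfsg.Agent.H767.SBk.Conv
import Cfsg.Agent.H258.Finish

/-!
# Sections of blocks: kernels, conjugation, the block with quotient of order three (S5175, T3)
-/

set_option autoImplicit false

namespace Cfsg.Agent.H276.HM

open Subgroup Cfsg Cfsg.Agent.H258.Finish
open Matrix (SpecialLinearGroup)

universe u

variable {G : Type u} [Group G]

/-- `E` acts on `U / C_U(E)` as `R ≤ SL₂(K)` on the natural module, with kernel `U` -/
def SecL (K : Type) [Field K] (R : Subgroup (SpecialLinearGroup (Fin 2) K)) (E U : Subgroup G) : Prop :=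
  ∃ (ρ : ↥E →* SpecialLinearGroup (Fin 2) K) (ψ : ↥U →* Multiplicative (Fin 2 → K)),
    ρ.range = R ∧ (∀ e, ρ e = 1 ↔ (e : G) ∈ U) ∧ Function.Surjective ψ ∧
    (∀ w, ψ w = 1 ↔ (w : G) ∈ centralizer (E : Set G)) ∧
    ∀ (e : E) (w w' : ↥U), (w' : G) = (e : G) * w * (e : G)⁻¹ →
      Multiplicative.toAdd (ψ w') =
        ((ρ e : SpecialLinearGroup (Fin 2) K) : Matrix (Fin 2) (Fin 2) K).mulVec (Multiplicative.toAdd (ψ w))

/-- `E` acts on `U / C_U(E)` as the alternating group on the even weight vectors, with kernel `U` -/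
def SecS (n : ℕ) (E U : Subgroup G) : Prop :=
  ∃ (ρ : ↥E →* Equiv.Perm (Fin n)) (ψ : ↥U →* Multiplicative (Fin n → ZMod 2)),
    ρ.range = alternatingGroup (Fin n) ∧ (∀ e, ρ e = 1 ↔ (e : G) ∈ U) ∧
    (∀ w, ∑ k, Multiplicative.toAdd (ψ w) k = 0) ∧
    (∀ v : Fin n → ZMod 2, ∑ k, v k = 0 → ∃ w, Multiplicative.toAdd (ψ w) = v) ∧
    (∀ w, ψ w = 1 ↔ (w : G) ∈ centralizer (E : Set G)) ∧
    ∀ (e : E) (w w' : ↥U), (w' : G) = (e : G) * w * (e : G)⁻¹ →
      ∀ k, Multiplicative.toAdd (ψ w') k = Multiplicative.toAdd (ψ w) ((ρ e)⁻¹ k)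

/-- conjugation `E^t → E` -/
def back (t : G) (E : Subgroup G) : ↥(cg t E) →* ↥E where
  toFun x := ⟨t⁻¹ * x * t, mem_cg.1 x.2⟩
  map_one' := Subtype.ext (by simp)
  map_mul' x y := Subtype.ext (by simp only [Subgroup.coe_mul]; group)

theorem back_coe (t : G) (E : Subgroup G) (x : ↥(cg t E)) : ((back t E x : ↥E) : G) = t⁻¹ * x * t := rfl

theorem back_surj (t : G) (E : Subgroup G) : Function.Surjective (back t E) := by
  intro y
  refine ⟨⟨t * y * t⁻¹, mem_cg.2 ?_⟩, ?_⟩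
  · have e : t⁻¹ * (t * y * t⁻¹) * t = (y : G) := by group
    rw [e]; exact y.2
  · apply Subtype.ext
    rw [back_coe]
    show t⁻¹ * (t * y * t⁻¹) * t = y
    group

theorem mem_centralizer_cg {t x : G} {E : Subgroup G} :
    x ∈ centralizer (cg t E : Set G) ↔ t⁻¹ * x * t ∈ centralizer (E : Set G) := by
  constructor
  · intro h e he
    have h1 := h (t * e * t⁻¹) ⟨e, he, rfl⟩
    have h2 : e * (t⁻¹ * x * t) = t⁻¹ * (t * e * t⁻¹ * x) * t := by group
    rw [h2, h1]
    group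
  · rintro h _ ⟨e, he, rfl⟩
    have h1 := h e he
    show t * e * t⁻¹ * x = x * (t * e * t⁻¹)
    have h2 : t * e * t⁻¹ * x = t * (e * (t⁻¹ * x * t)) * t⁻¹ := by group
    rw [h2, h1]
    group

theorem SecL.conj {K : Type} [Field K] {R : Subgroup (SpecialLinearGroup (Fin 2) K)} {E U : Subgroup G}
    (h : SecL K R E U) (t : G) : SecL K R (cg t E) (cg t U) := by
  obtain ⟨ρ, ψ, h1, h2, h3, h4, h5⟩ := h
  refine ⟨ρ.comp (back t E), ψ.comp (back t U), ?_, ?_, ?_, ?_, ?_⟩
  · rw [MonoidHom.range_comp, MonoidHom.range_eq_top.2 (back_surj t E), ← MonoidHom.range_eq_map, h1]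
  · intro e
    rw [MonoidHom.comp_apply, h2, back_coe]
    exact mem_cg.symm
  · exact h3.comp (back_surj t U)
  · intro w
    rw [MonoidHom.comp_apply, h4, back_coe]
    exact mem_centralizer_cg.symm
  · intro e w w' hw
    refine h5 (back t E e) (back t U w) (back t U w') ?_
    rw [back_coe, back_coe, back_coe, hw]
    group

theorem SecS.conj {n : ℕ} {E U : Subgroup G} (h : SecS n E U) (t : G) : SecS n (cg t E) (cg t U) := by
  obtain ⟨ρ, ψ, h1, h2, h3, h4, h5, h6⟩ := h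
  refine ⟨ρ.comp (back t E), ψ.comp (back t U), ?_, ?_, ?_, ?_, ?_, ?_⟩
  · rw [MonoidHom.range_comp, MonoidHom.range_eq_top.2 (back_surj t E), ← MonoidHom.range_eq_map, h1]
  · intro e
    rw [MonoidHom.comp_apply, h2, back_coe]
    exact mem_cg.symm
  · intro w; exact h3 _
  · intro v hv
    obtain ⟨w, hw⟩ := h4 v hv
    obtain ⟨w', rfl⟩ := back_surj t U w
    exact ⟨w', hw⟩
  · intro w
    rw [MonoidHom.comp_apply, h5, back_coe]
    exact mem_centralizer_cg.symm
  · intro e w w' hw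
    refine h6 (back t E e) (back t U w) (back t U w') ?_
    rw [back_coe, back_coe, back_coe, hw]
    group

/-! ### kernels -/

theorem ker_le_of_card {E R : Type*} [Group E] [Finite E] [Group R] {P : Subgroup E} [P.Normal] (ρ : E →* R)
    (h : Nat.card (E ⧸ P) = Nat.card ρ.range) (hP : P ≤ ρ.ker) : ρ.ker ≤ P := by
  have h1 : ρ.ker.index = Nat.card ρ.range := Subgroup.index_ker ρ
  have h2 : P.index = ρ.ker.index := by rw [h1, ← h]; rfl
  have h3 := Subgroup.relIndex_mul_index hP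
  have h4 : ρ.ker.index ≠ 0 := Subgroup.index_ne_zero_of_finite
  rw [h2] at h3
  have h5 : P.relIndex ρ.ker = 1 := Nat.eq_of_mul_eq_mul_right (Nat.pos_of_ne_zero h4) (by rw [h3, one_mul])
  exact Subgroup.relIndex_eq_one.1 h5

variable [Finite G]

/-- from the section of a linear block to `SecL` -/
theorem secL_of {K : Type} [Field K] {E U : Subgroup G}
    (hU : ∀ x : ↥E, (x : G) ∈ U ↔ x ∈ pCore 2 ↥E) (hab : ∀ x ∈ U, ∀ y ∈ U, x * y = y * x)
    (hq : Nonempty (↥E ⧸ pCore 2 ↥E ≃* ↥(commutator (SpecialLinearGroup (Fin 2) K))))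
    (h : ActsAsSL2OnSection K (commutator (SpecialLinearGroup (Fin 2) K)) E U (U ⊓ centralizer (E : Set G))) :
    SecL K (commutator (SpecialLinearGroup (Fin 2) K)) E U := by
  obtain ⟨-, -, ρ, ψ, h1, h2, h3, h4⟩ := h
  have hn : (pCore 2 ↥E).Normal := Lib.Cores.pCore_normal 2
  obtain ⟨e⟩ := hq
  have hact : ∀ (e : E) (w w' : ↥U), (w' : G) = (e : G) * w * (e : G)⁻¹ →
      Multiplicative.toAdd (ψ w') =
        ((ρ e : SpecialLinearGroup (Fin 2) K) : Matrix (Fin 2) (Fin 2) K).mulVec (Multiplicative.toAdd (ψ w)) := by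
    intro e w w' hw
    obtain ⟨w'', hw2, hw3⟩ := h4 e w
    have h5 : w' = w'' := Subtype.ext (by rw [hw, hw2])
    rw [h5]; exact hw3
  have hle : pCore 2 ↥E ≤ ρ.ker := by
    intro y hy
    rw [MonoidHom.mem_ker]
    have hyU : (y : G) ∈ U := (hU y).2 hy
    have h5 : ∀ v : Fin 2 → K, (ρ y : Matrix (Fin 2) (Fin 2) K).mulVec v = v := by
      intro v
      obtain ⟨u, hu⟩ := h2 (Multiplicative.ofAdd v)
      have h6 := hact y u u (by rw [hab y hyU u u.2, mul_inv_cancel_right])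
      rw [hu] at h6
      exact h6.symm
    apply Subtype.ext
    apply Matrix.toLin'.injective
    apply LinearMap.ext
    intro v
    rw [Matrix.toLin'_apply, Matrix.toLin'_apply, h5]
    simp
  have hker : ρ.ker = pCore 2 ↥E := by
    refine le_antisymm (ker_le_of_card ρ ?_ hle) hle
    rw [h1]; exact Nat.card_congr e.toEquiv
  refine ⟨ρ, ψ, h1, ?_, h2, ?_, hact⟩
  · intro e
    rw [← MonoidHom.mem_ker, hker, hU]
  · intro w
    rw [h3]
    exact ⟨fun h => h.2, fun h => ⟨w.2, h⟩⟩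

/-- from the section of a symmetric block to `SecS` -/
theorem secS_of {m : ℕ} (hm : 1 ≤ m) {E U : Subgroup G}
    (hU : ∀ x : ↥E, (x : G) ∈ U ↔ x ∈ pCore 2 ↥E) (hab : ∀ x ∈ U, ∀ y ∈ U, x * y = y * x)
    (hq : Nonempty (↥E ⧸ pCore 2 ↥E ≃* ↥(alternatingGroup (Fin (2 * m + 1)))))
    (h : ActsAsOddPermModuleOnSection (2 * m + 1) (alternatingGroup (Fin (2 * m + 1))) E U
      (U ⊓ centralizer (E : Set G))) :
    SecS (2 * m + 1) E U := by
  obtain ⟨-, -, ρ, ψ, h1, h2, h3, h4, h5⟩ := h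
  have hn : (pCore 2 ↥E).Normal := Lib.Cores.pCore_normal 2
  obtain ⟨e⟩ := hq
  have hact : ∀ (e : E) (w w' : ↥U), (w' : G) = (e : G) * w * (e : G)⁻¹ →
      ∀ k, Multiplicative.toAdd (ψ w') k = Multiplicative.toAdd (ψ w) ((ρ e)⁻¹ k) := by
    intro e w w' hw
    obtain ⟨w'', hw2, hw3⟩ := h5 e w
    have h5 : w' = w'' := Subtype.ext (by rw [hw, hw2])
    rw [h5]; exact hw3
  have hle : pCore 2 ↥E ≤ ρ.ker := by
    intro y hy
    rw [MonoidHom.mem_ker]
    have hyU : (y : G) ∈ U := (hU y).2 hy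
    by_contra hne
    obtain ⟨i, hi⟩ : ∃ i, ρ y i ≠ i := by
      by_contra hcon
      push Not at hcon
      exact hne (Equiv.ext hcon)
    obtain ⟨j, hj1, hj2⟩ : ∃ j, j ≠ i ∧ j ≠ ρ y i := by
      by_contra hcon
      push Not at hcon
      have h1 : (Finset.univ : Finset (Fin (2 * m + 1))) ⊆ {i, ρ y i} := by
        intro j _
        rw [Finset.mem_insert, Finset.mem_singleton]
        by_cases hj : j = i
        · exact Or.inl hj
        · exact Or.inr (hcon j hj)
      have h2 := Finset.card_le_card h1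
      rw [Finset.card_univ, Fintype.card_fin] at h2
      have h3 := Finset.card_le_two (a := i) (b := ρ y i)
      omega
    obtain ⟨v, hv⟩ : ∃ v : Fin (2 * m + 1) → ZMod 2, v = Pi.single i 1 + Pi.single j 1 := ⟨_, rfl⟩
    have hsum : ∑ i, v i = 0 := by
      rw [hv]
      simp only [Pi.add_apply, Finset.sum_add_distrib, Finset.sum_pi_single', Finset.mem_univ, if_true]
      decide
    obtain ⟨u, hu⟩ := h3 v hsum
    have hw2 := hact y u u (by rw [hab y hyU u u.2, mul_inv_cancel_right])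
    rw [hu] at hw2
    have h3 := hw2 (ρ y i)
    have h4 : (ρ y)⁻¹ (ρ y i) = i := by simp
    rw [h4, hv] at h3
    simp only [Pi.add_apply, Pi.single_apply, hi, hj2.symm, hj1.symm, if_true, if_false] at h3
    exact absurd h3 (by decide)
  have hker : ρ.ker = pCore 2 ↥E := by
    refine le_antisymm (ker_le_of_card ρ ?_ hle) hle
    rw [h1]; exact Nat.card_congr e.toEquiv
  refine ⟨ρ, ψ, h1, ?_, h2, h3, ?_, hact⟩
  · intro e
    rw [← MonoidHom.mem_ker, hker, hU]
  · intro w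
    rw [h4]
    exact ⟨fun h => h.2, fun h => ⟨w.2, h⟩⟩

/-! ### `|K| = 2` -/

open Cfsg.Agent.H767.SBk in
theorem th_inj : Function.Injective th := by
  have key : ∀ σ τ : Equiv.Perm (Fin 3), tm σ = tm τ → σ = τ := by decide
  intro σ τ h
  exact key σ τ (congrArg Subtype.val h)

/-- `F₂² → ` even weight vectors of `F₂³` -/
def ext3 (x : Fin 2 → ZMod 2) : Fin 3 → ZMod 2 := ![x 0, x 1, x 0 + x 1]

theorem ext3_add : ∀ x y, ext3 (x + y) = ext3 x + ext3 y := by decide

theorem ext3_sum : ∀ x, ∑ k, ext3 x k = 0 := by decide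

theorem ext3_surj : ∀ v : Fin 3 → ZMod 2, ∑ k, v k = 0 → ∃ x, ext3 x = v := by decide

theorem ext3_zero : ∀ x, ext3 x = 0 ↔ x = 0 := by decide

theorem ext3_act : ∀ (σ : Equiv.Perm (Fin 3)) (x : Fin 2 → ZMod 2) (k : Fin 3),
    ext3 ((Cfsg.Agent.H767.SBk.tm σ).mulVec x) k = ext3 x (σ⁻¹ k) := by decide

/-- change of field for `SecL` -/
theorem SecL.transport {F K : Type} [Field F] [Field K] (r : F ≃+* K) {E U : Subgroup G}
    (h : SecL F (commutator (SpecialLinearGroup (Fin 2) F)) E U) :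
    SecL K (commutator (SpecialLinearGroup (Fin 2) K)) E U := by
  obtain ⟨ρ, ψ, h1, h2, h3, h4, h5⟩ := h
  let t : (Fin 2 → F) →+ (Fin 2 → K) :=
    { toFun := fun v i => r (v i)
      map_zero' := by ext i; simp
      map_add' := fun u v => by ext i; simp }
  have ht : Function.Injective t := fun u v e => by
    ext i
    exact r.injective (congrFun e i)
  refine ⟨(Cfsg.Agent.H258.SLf.slEquiv r).toMonoidHom.comp ρ, (AddMonoidHom.toMultiplicative t).comp ψ,
    ?_, ?_, ?_, ?_, ?_⟩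
  · rw [MonoidHom.range_comp, h1]
    exact Cfsg.Agent.H258.SLf.map_commutator_equiv _
  · intro e
    rw [← h2]
    exact map_eq_one_iff _ (Cfsg.Agent.H258.SLf.slEquiv r).injective
  · intro v
    obtain ⟨u, hu⟩ := h3 (Multiplicative.ofAdd (fun i => r.symm (Multiplicative.toAdd v i)))
    refine ⟨u, ?_⟩
    show Multiplicative.ofAdd (t (Multiplicative.toAdd (ψ u))) = v
    rw [hu]
    apply Multiplicative.toAdd.injective
    ext i
    show r (r.symm _) = _
    rw [r.apply_symm_apply]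
  · intro u
    rw [← h4]
    show Multiplicative.ofAdd (t (Multiplicative.toAdd (ψ u))) = 1 ↔ _
    constructor
    · intro e
      have e1 : t (Multiplicative.toAdd (ψ u)) = 0 := e
      have e2 : Multiplicative.toAdd (ψ u) = 0 := ht (e1.trans (map_zero t).symm)
      exact e2
    · intro e
      rw [e, toAdd_one, map_zero]
      rfl
  · intro e u w hw
    show t (Multiplicative.toAdd (ψ w)) = _
    rw [h5 e u w hw]
    ext i
    show r (((ρ e : Matrix (Fin 2) (Fin 2) F).mulVec (Multiplicative.toAdd (ψ u))) i) = _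
    exact RingHom.map_mulVec (r : F →+* K) (ρ e).1 (Multiplicative.toAdd (ψ u)) i

/-- the linear block over the field with two elements is the symmetric block of degree three -/
theorem SecL.two {E U : Subgroup G}
    (h : SecL (ZMod 2) (commutator (SpecialLinearGroup (Fin 2) (ZMod 2))) E U) : SecS 3 E U := by
  obtain ⟨ρ, ψ, h1, h2, h3, h4, h5⟩ := h
  have hr : ∀ e, ρ e ∈ Cfsg.Agent.H767.SBk.th.range := by
    intro e
    have h6 : ρ e ∈ ρ.range := ⟨e, rfl⟩
    rw [h1, ← Cfsg.Agent.H767.SBk.th_range] at h6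
    obtain ⟨σ, -, hσ⟩ := h6
    exact ⟨σ, hσ⟩
  let ρ' : ↥E →* Equiv.Perm (Fin 3) :=
    (MonoidHom.ofInjective th_inj).symm.toMonoidHom.comp (ρ.codRestrict _ hr)
  have hρ' : ∀ e, Cfsg.Agent.H767.SBk.th (ρ' e) = ρ e := by
    intro e
    have h6 := (MonoidHom.ofInjective th_inj).apply_symm_apply (ρ.codRestrict _ hr e)
    exact congrArg Subtype.val h6
  let t : (Fin 2 → ZMod 2) →+ (Fin 3 → ZMod 2) :=
    { toFun := ext3
      map_zero' := (ext3_zero 0).2 rfl
      map_add' := ext3_add }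
  refine ⟨ρ', (AddMonoidHom.toMultiplicative t).comp ψ, ?_, ?_, ?_, ?_, ?_, ?_⟩
  · ext σ
    constructor
    · rintro ⟨e, rfl⟩
      have h6 : ρ e ∈ ρ.range := ⟨e, rfl⟩
      rw [h1, ← Cfsg.Agent.H767.SBk.th_range, ← hρ'] at h6
      obtain ⟨τ, hτ, hτ'⟩ := h6
      rw [← th_inj hτ']; exact hτ
    · intro hσ
      have h6 : Cfsg.Agent.H767.SBk.th σ ∈ (alternatingGroup (Fin 3)).map Cfsg.Agent.H767.SBk.th := ⟨σ, hσ, rfl⟩
      rw [Cfsg.Agent.H767.SBk.th_range, ← h1] at h6
      obtain ⟨e, he⟩ := h6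
      exact ⟨e, th_inj (by rw [hρ', he])⟩
  · intro e
    rw [← h2, ← hρ', map_eq_one_iff _ th_inj]
  · intro w
    exact ext3_sum _
  · intro v hv
    obtain ⟨x, hx⟩ := ext3_surj v hv
    obtain ⟨w, hw⟩ := h3 (Multiplicative.ofAdd x)
    refine ⟨w, ?_⟩
    show ext3 (Multiplicative.toAdd (ψ w)) = v
    rw [hw]; exact hx
  · intro w
    rw [← h4]
    exact ext3_zero _
  · intro e w w' hw k
    show ext3 (Multiplicative.toAdd (ψ w')) k = ext3 (Multiplicative.toAdd (ψ w)) ((ρ' e)⁻¹ k)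
    rw [h5 e w w' hw, ← ext3_act, ← hρ']
    rfl

end Cfsg.Agent.H276.HM
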