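import Cfsg.Agent.H41.HM.Full

/-!
# S5175, symmetric blocks: an element of order three acting as a 3-cycle on the points
-/

set_option autoImplicit false
set_option linter.unusedSectionVars false
set_option linter.unusedVariables false

namespace Cfsg.Agent.H276.HM

open Subgroup Cfsg Cfsg.Agent.H756.HM Cfsg.Agent.H41.HM
open scoped commutatorElement

variable {P : Type*} [Group P] {T : Subgroup P} {I : Type} {n : ℕ} (S : Sy T I n)

local notation "QQ" => pCore 2 P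
local notation "KK" => pResidual 2 P
local notation "WW" => (⁅pCore 2 P, pResidual 2 P⁆ : Subgroup P)

theorem Q_nor : (QQ).Normal := Lib.Cores.pCore_normal 2

theorem K_nor : (KK).Normal := Transfer.Residual.pResidual_normal 2

theorem W_le_Q : WW ≤ QQ := by
  have := Q_nor (P := P)
  exact Subgroup.commutator_le_left _ _

theorem W_le_K : WW ≤ KK := by
  have := K_nor (P := P)
  exact Subgroup.commutator_le_right _ _

include S in
theorem W_comm {w w' : P} (hw : w ∈ WW) (hw' : w' ∈ WW) : w * w' = w' * w :=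
  S.bw.W_comm w hw w' (W_le_Q hw')

include S in
theorem W_sq {w : P} (hw : w ∈ WW) : w * w = 1 := by
  rw [← pow_two]; exact S.bw.W_sq w hw

include S in
theorem W_inv {w : P} (hw : w ∈ WW) : w⁻¹ = w := inv_eq_of_mul_eq_one_left (W_sq S hw)

theorem Ψ_one : S.Ψ 1 = 0 := (S.ker 1 (one_mem _)).2 (one_mem _)

theorem z2 (a : ZMod 2) : a + a = 0 := by revert a; decide

theorem z2' {a b : ZMod 2} (h : a + b = 0) : a = b := by revert a b; decide

theorem z2'' (a : ZMod 2) : a = 0 ∨ a = 1 := by revert a; decide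

theorem Ψ_inv {w : P} (hw : w ∈ WW) : S.Ψ w⁻¹ = S.Ψ w := by rw [W_inv S hw]

/-- the action of `g` on `W` through `σ` -/
theorem Ψ_conj (g : P) {w : P} (hw : w ∈ WW) (x : I × Fin n) :
    S.Ψ (g * w * g⁻¹) x = S.Ψ w ((S.σ g)⁻¹ x) := by
  have h1 := S.eqv g w hw ((S.σ g)⁻¹ x)
  have h2 : S.σ g ((S.σ g)⁻¹ x) = x := (S.σ g).apply_symm_apply x
  rw [h2] at h1
  exact h1

theorem Ψ_of_comm {g w : P} (hw : w ∈ WW) (h : g * w = w * g) (x : I × Fin n) :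
    S.Ψ w (S.σ g x) = S.Ψ w x := by
  have h1 := S.eqv g w hw x
  rwa [h, mul_inv_cancel_right] at h1

/-- the element `h` of order three -/
structure Tri (h : P) (x y z : I × Fin n) : Prop where
  K : h ∈ KK
  cube : h * h * h = 1
  ne1 : x ≠ y
  ne2 : x ≠ z
  ne3 : y ≠ z
  blk1 : x.1 = y.1
  blk2 : x.1 = z.1
  sx : S.σ h x = z
  sz : S.σ h z = y
  sy : S.σ h y = x
  so : ∀ u, u ≠ x → u ≠ y → u ≠ z → S.σ h u = u

/-- `[W, h]` -/
def DD (h : P) (hW : Subgroup.Normal WW) (hc : ∀ w ∈ WW, ∀ w' ∈ WW, w * w' = w' * w) : Subgroup P where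
  carrier := {w | w ∈ WW ∧ w * (h * w * h⁻¹) * (h * (h * w * h⁻¹) * h⁻¹) = 1}
  one_mem' := ⟨one_mem _, by simp⟩
  mul_mem' := by
    rintro a b ⟨ha, ha'⟩ ⟨hb, hb'⟩
    refine ⟨mul_mem ha hb, ?_⟩
    have a1 := hW.conj_mem a ha h
    have a2 := hW.conj_mem _ a1 h
    have b1 := hW.conj_mem b hb h
    have b2 := hW.conj_mem _ b1 h
    obtain ⟨a', ea⟩ : ∃ a', a' = h * a * h⁻¹ := ⟨_, rfl⟩
    obtain ⟨b', eb⟩ : ∃ b', b' = h * b * h⁻¹ := ⟨_, rfl⟩
    obtain ⟨a'', ea'⟩ : ∃ a'', a'' = h * a' * h⁻¹ := ⟨_, rfl⟩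
    obtain ⟨b'', eb'⟩ : ∃ b'', b'' = h * b' * h⁻¹ := ⟨_, rfl⟩
    rw [← ea] at a1 a2 ha'
    rw [← eb] at b1 b2 hb'
    rw [← ea'] at a2 ha'
    rw [← eb'] at b2 hb'
    have e1 : h * (a * b) * h⁻¹ = a' * b' := by rw [ea, eb]; group
    have e2 : h * (a' * b') * h⁻¹ = a'' * b'' := by rw [ea', eb']; group
    rw [e1, e2]
    have c1 : Commute b a' := hc b hb a' a1
    have c2 : Commute b a'' := hc b hb a'' a2
    have c3 : Commute b' a'' := hc b' b1 a'' a2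
    calc a * b * (a' * b') * (a'' * b'') = a * (b * a') * b' * a'' * b'' := by group
      _ = a * (a' * b) * b' * a'' * b'' := by rw [c1.eq]
      _ = a * a' * b * (b' * a'') * b'' := by group
      _ = a * a' * b * (a'' * b') * b'' := by rw [c3.eq]
      _ = a * a' * (b * a'') * b' * b'' := by group
      _ = a * a' * (a'' * b) * b' * b'' := by rw [c2.eq]
      _ = (a * a' * a'') * (b * b' * b'') := by group
      _ = 1 := by rw [ha', hb', one_mul]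
  inv_mem' := by
    rintro a ⟨ha, ha'⟩
    refine ⟨inv_mem ha, ?_⟩
    have a1 := hW.conj_mem a ha h
    have a2 := hW.conj_mem _ a1 h
    obtain ⟨a', ea⟩ : ∃ a', a' = h * a * h⁻¹ := ⟨_, rfl⟩
    obtain ⟨a'', ea'⟩ : ∃ a'', a'' = h * a' * h⁻¹ := ⟨_, rfl⟩
    rw [← ea] at a1 a2 ha'
    rw [← ea'] at a2 ha'
    have e1 : h * a⁻¹ * h⁻¹ = a'⁻¹ := by rw [ea]; group
    have e2 : h * a'⁻¹ * h⁻¹ = a''⁻¹ := by rw [ea']; group
    rw [e1, e2]
    have c1 : Commute a a' := hc a ha a' a1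
    have c2 : Commute a a'' := hc a ha a'' a2
    have c3 : Commute a' a'' := hc a' a1 a'' a2
    have h1 : (a * a' * a'')⁻¹ = 1 := by rw [ha', inv_one]
    rw [← h1, mul_inv_rev, mul_inv_rev]
    have d1 : a⁻¹ * a'⁻¹ = a'⁻¹ * a⁻¹ := (c1.inv_inv).eq
    have d2 : a'⁻¹ * a⁻¹ * a''⁻¹ = a''⁻¹ * (a'⁻¹ * a⁻¹) := by
      have := ((c3.mul_left c2 : Commute (a' * a) a'').inv_inv).eq
      rw [mul_inv_rev] at this
      rw [← d1]
      exact this
    rw [d1, d2]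

section

variable {h : P} {x y z : I × Fin n}

/-- `[W, h]` for the given data -/
abbrev dd (S : Sy T I n) (h : P) : Subgroup P := DD h (SBl.W_nor) (fun _ hw _ hw' => W_comm S hw hw')

theorem mem_dd {w : P} : w ∈ dd S h ↔ w ∈ WW ∧ w * (h * w * h⁻¹) * (h * (h * w * h⁻¹) * h⁻¹) = 1 := Iff.rfl

theorem conj_W (g : P) {w : P} (hw : w ∈ WW) : g * w * g⁻¹ ∈ WW := SBl.W_conj g hw

theorem conj_dd {w : P} (hh : h * h * h = 1) (hw : w ∈ dd S h) : h * w * h⁻¹ ∈ dd S h := by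
  obtain ⟨h1, h2⟩ := hw
  refine ⟨conj_W h h1, ?_⟩
  have h3 := conj_W h h1
  have h4 := conj_W h h3
  have e : h * (h * (h * w * h⁻¹) * h⁻¹) * h⁻¹ = w := by
    have e1 : h * (h * (h * w * h⁻¹) * h⁻¹) * h⁻¹ = (h * h * h) * w * (h * h * h)⁻¹ := by group
    rw [e1, hh]; group
  rw [e]
  have h5 := W_comm S (mul_mem h3 h4) h1
  rw [h5, ← mul_assoc]
  exact h2

/-- `[Q, ⟨h⟩] ≤ D` -/
theorem comm_le_dd (hK : h ∈ KK) (hh : h * h * h = 1) : ⁅QQ, zpowers h⁆ ≤ dd S h := by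
  have key : ∀ q ∈ QQ, ⁅q, h⁆ ∈ dd S h := by
    intro q hq
    have h1 : ⁅q, h⁆ ∈ WW := commutator_mem_commutator hq hK
    refine ⟨h1, ?_⟩
    rw [commutatorElement_def]
    have e : q * h * q⁻¹ * h⁻¹ * (h * (q * h * q⁻¹ * h⁻¹) * h⁻¹) * (h * (h * (q * h * q⁻¹ * h⁻¹) * h⁻¹) * h⁻¹) =
        q * (h * h * h) * q⁻¹ * (h * h * h)⁻¹ := by group
    rw [e, hh]; group
  have key2 : ∀ k : ℕ, ∀ q ∈ QQ, ⁅q, h ^ k⁆ ∈ dd S h := by
    intro k
    induction k with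
    | zero => intro q hq; rw [pow_zero]; rw [commutatorElement_one_right]; exact one_mem _
    | succ k ih =>
      intro q hq
      have e : ⁅q, h ^ (k + 1)⁆ = ⁅q, h⁆ * (h * ⁅q, h ^ k⁆ * h⁻¹) := by
        rw [pow_succ', commutatorElement_def, commutatorElement_def, commutatorElement_def]; group
      rw [e]
      exact mul_mem (key q hq) (conj_dd S hh (ih q hq))
  rw [commutator_le]
  intro q hq g hg
  have hfo : IsOfFinOrder h := isOfFinOrder_iff_pow_eq_one.2 ⟨3, by norm_num, by rw [pow_succ, pow_two]; exact hh⟩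
  obtain ⟨k, rfl⟩ := (hfo.mem_powers_iff_mem_zpowers.2 hg : g ∈ Submonoid.powers h)
  exact key2 k q hq

theorem dd_le_comm (hh : h * h * h = 1) : dd S h ≤ ⁅QQ, zpowers h⁆ := by
  rintro w ⟨h1, h2⟩
  have h3 := conj_W h h1
  have h4 := conj_W h h3
  have e : ⁅h * w * h⁻¹, h⁆ = w := by
    have e1 : ⁅h * w * h⁻¹, h⁆ = (h * w * h⁻¹) * (h * (h * w * h⁻¹) * h⁻¹)⁻¹ := by
      rw [commutatorElement_def]; group
    rw [e1, W_inv S h4]
    have e2 : (h * w * h⁻¹) * (h * (h * w * h⁻¹) * h⁻¹) = w⁻¹ := by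
      rw [eq_inv_iff_mul_eq_one, ← h2]
      have h5 := W_comm S (mul_mem h3 h4) h1
      rw [h5, ← mul_assoc]
    rw [e2, W_inv S h1]
  rw [← e]
  exact commutator_mem_commutator (W_le_Q h3) (mem_zpowers h)

theorem comm_eq_dd (hK : h ∈ KK) (hh : h * h * h = 1) : ⁅QQ, zpowers h⁆ = dd S h :=
  le_antisymm (comm_le_dd S hK hh) (dd_le_comm S hh)

/-- decomposition -/
theorem exists_cd (hh : h * h * h = 1) {w : P} (hw : w ∈ WW) :
    ∃ c ∈ WW, ∃ d ∈ dd S h, w = c * d ∧ h * c * h⁻¹ = c ∧ d = (h * w * h⁻¹) * (h * (h * w * h⁻¹) * h⁻¹) := by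
  have h3 := conj_W h hw
  have h4 := conj_W h h3
  obtain ⟨w1, e1⟩ : ∃ w1, w1 = h * w * h⁻¹ := ⟨_, rfl⟩
  obtain ⟨w2, e2⟩ : ∃ w2, w2 = h * w1 * h⁻¹ := ⟨_, rfl⟩
  have e3 : h * w2 * h⁻¹ = w := by
    have e1 : h * w2 * h⁻¹ = (h * h * h) * w * (h * h * h)⁻¹ := by rw [e2, e1]; group
    rw [e1, hh]; group
  rw [← e1] at h3 h4 ⊢
  rw [← e2] at h4 ⊢
  refine ⟨w * w1 * w2, mul_mem (mul_mem hw h3) h4, w1 * w2, ⟨mul_mem h3 h4, ?_⟩, ?_, ?_, rfl⟩
  · have f1 : h * (w1 * w2) * h⁻¹ = w2 * w := by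
      calc h * (w1 * w2) * h⁻¹ = (h * w1 * h⁻¹) * (h * w2 * h⁻¹) := by group
        _ = _ := by rw [← e2, e3]
    have f2 : h * (w2 * w) * h⁻¹ = w * w1 := by
      calc h * (w2 * w) * h⁻¹ = (h * w2 * h⁻¹) * (h * w * h⁻¹) := by group
        _ = _ := by rw [← e1, e3]
    rw [f1, f2]
    calc w1 * w2 * (w2 * w) * (w * w1) = w1 * (w2 * w2) * (w * w) * w1 := by group
      _ = 1 := by rw [W_sq S h4, W_sq S hw, mul_one, mul_one, W_sq S h3]
  · calc w = w * 1 * 1 := by group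
      _ = w * (w1 * w1) * (w2 * w2) := by rw [W_sq S h3, W_sq S h4]
      _ = w * w1 * (w1 * w2) * w2 := by group
      _ = w * w1 * (w2 * w1) * w2 := by rw [W_comm S h3 h4]
      _ = _ := by group
  · calc h * (w * w1 * w2) * h⁻¹ = (h * w * h⁻¹) * (h * w1 * h⁻¹) * (h * w2 * h⁻¹) := by group
      _ = w1 * w2 * w := by rw [← e1, ← e2, e3]
      _ = w * (w1 * w2) := by rw [W_comm S (mul_mem h3 h4) hw]
      _ = _ := by group

end

section tri

variable {h : P} {x y z : I × Fin n} {S} (t : Tri S h x y z)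
include t

theorem Tri.ix : (S.σ h)⁻¹ x = y := by rw [Equiv.Perm.inv_eq_iff_eq]; exact t.sy.symm
theorem Tri.iy : (S.σ h)⁻¹ y = z := by rw [Equiv.Perm.inv_eq_iff_eq]; exact t.sz.symm
theorem Tri.iz : (S.σ h)⁻¹ z = x := by rw [Equiv.Perm.inv_eq_iff_eq]; exact t.sx.symm
theorem Tri.io {u : I × Fin n} (h1 : u ≠ x) (h2 : u ≠ y) (h3 : u ≠ z) : (S.σ h)⁻¹ u = u := by
  rw [Equiv.Perm.inv_eq_iff_eq]; exact (t.so u h1 h2 h3).symm

theorem Tri.norm_Ψ {w : P} (hw : w ∈ WW) (u : I × Fin n) :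
    S.Ψ (w * (h * w * h⁻¹) * (h * (h * w * h⁻¹) * h⁻¹)) u =
      S.Ψ w u + S.Ψ w ((S.σ h)⁻¹ u) + S.Ψ w ((S.σ h)⁻¹ ((S.σ h)⁻¹ u)) := by
  have h3 := conj_W h hw
  have h4 := conj_W h h3
  rw [S.mul _ (mul_mem hw h3) _ h4, S.mul _ hw _ h3, Pi.add_apply, Pi.add_apply, Ψ_conj S h hw, Ψ_conj S h h3,
    Ψ_conj S h hw]

/-- elements of `D` are supported on the triple -/
theorem Tri.supp {w : P} (hw : w ∈ dd S h) {u : I × Fin n} (h1 : u ≠ x) (h2 : u ≠ y) (h3 : u ≠ z) : S.Ψ w u = 0 := by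
  obtain ⟨hw1, hw2⟩ := hw
  have h4 := t.norm_Ψ hw1 u
  rw [hw2, Ψ_one, t.io h1 h2 h3, t.io h1 h2 h3, z2, zero_add] at h4
  exact h4.symm

theorem Tri.sum {w : P} (hw : w ∈ dd S h) : S.Ψ w x + S.Ψ w y + S.Ψ w z = 0 := by
  obtain ⟨hw1, hw2⟩ := hw
  have h4 := t.norm_Ψ hw1 x
  rw [hw2, Ψ_one, t.ix, t.iy] at h4
  exact h4.symm

/-- `Ψ` is injective on `D` -/
theorem Tri.inj {w : P} (hw : w ∈ dd S h) (h0 : S.Ψ w = 0) : w = 1 := by
  have hw' := hw
  obtain ⟨hw1, hw2⟩ := hw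
  have h1 := (S.ker w hw1).1 h0
  have h2 : h * w = w * h := h1 h t.K
  have h3 : h * w * h⁻¹ = w := by rw [h2, mul_inv_cancel_right]
  rw [h3, h3, W_sq S hw1, one_mul] at hw2
  exact hw2

theorem Tri.ext {w w' : P} (hw : w ∈ dd S h) (hw' : w' ∈ dd S h) (hx : S.Ψ w x = S.Ψ w' x) (hy : S.Ψ w y = S.Ψ w' y) :
    w = w' := by
  have h1 : w * w' ∈ dd S h := mul_mem hw hw'
  have hz : S.Ψ w z = S.Ψ w' z := by
    have h2 := t.sum hw
    have h3 := t.sum hw'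
    rw [hx, hy] at h2
    rw [← h3] at h2
    exact add_left_cancel h2
  have h2 : w * w' = 1 := by
    refine t.inj h1 ?_
    funext u
    rw [S.mul w hw.1 w' hw'.1, Pi.add_apply]
    by_cases h1 : u = x
    · rw [h1, hx]; exact z2 _
    by_cases h2 : u = y
    · rw [h2, hy]; exact z2 _
    by_cases h3 : u = z
    · rw [h3, hz]; exact z2 _
    rw [t.supp hw h1 h2 h3, t.supp hw' h1 h2 h3]; rfl
  rw [← W_inv S hw'.1]
  exact eq_inv_of_mul_eq_one_left h2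

/-- every even vector supported on the triple comes from `D` -/
theorem Tri.exists_dd (v : I × Fin n → ZMod 2) (hv : ∀ i, ∑ k, v (i, k) = 0) (h0 : ∀ u, u ≠ x → u ≠ y → u ≠ z → v u = 0)
    (hs : v x + v y + v z = 0) : ∃ w ∈ dd S h, S.Ψ w = v := by
  obtain ⟨w, hw, hwv⟩ := S.surj v hv
  obtain ⟨c, hc, d, hd, e1, e2, e3⟩ := exists_cd S t.cube hw
  refine ⟨d, hd, ?_⟩
  have h3 := conj_W h hw
  have h4 := conj_W h h3
  have key : ∀ u, v ((S.σ h)⁻¹ u) + v ((S.σ h)⁻¹ ((S.σ h)⁻¹ u)) = v u := by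
    intro u
    by_cases h1 : u = x
    · rw [h1, t.ix, t.iy]
      have := z2' hs
      revert this hs
      generalize v x = a; generalize v y = b; generalize v z = c
      revert a b c; decide
    by_cases h2 : u = y
    · rw [h2, t.iy, t.iz]
      revert hs
      generalize v x = a; generalize v y = b; generalize v z = c
      revert a b c; decide
    by_cases h3 : u = z
    · rw [h3, t.iz, t.ix]
      revert hs
      generalize v x = a; generalize v y = b; generalize v z = c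
      revert a b c; decide
    rw [t.io h1 h2 h3, t.io h1 h2 h3, z2, h0 u h1 h2 h3]
  funext u
  rw [e3, S.mul _ h3 _ h4, Pi.add_apply, Ψ_conj S h hw, Ψ_conj S h h3, Ψ_conj S h hw, hwv]
  exact key u

/-- `b` fixing the triple centralises `D` -/
theorem Tri.comm_b {b : P} (hx : S.σ b x = x) (hy : S.σ b y = y) (hz : S.σ b z = z) : ∀ w ∈ dd S h, w * b = b * w := by
  have hKn := K_nor (P := P)
  -- `[h, b] ∈ W`
  have hcm : S.σ b * S.σ h = S.σ h * S.σ b := by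
    ext1 u
    rw [Equiv.Perm.mul_apply, Equiv.Perm.mul_apply]
    by_cases h1 : u = x
    · rw [h1, t.sx, hx, t.sx, hz]
    by_cases h2 : u = y
    · rw [h2, t.sy, hy, t.sy, hx]
    by_cases h3 : u = z
    · rw [h3, t.sz, hz, t.sz, hy]
    rw [t.so u h1 h2 h3, t.so]
    · intro h4; rw [← hx] at h4; exact h1 ((S.σ b).injective h4)
    · intro h4; rw [← hy] at h4; exact h2 ((S.σ b).injective h4)
    · intro h4; rw [← hz] at h4; exact h3 ((S.σ b).injective h4)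
  have hW : b⁻¹ * h * b * h⁻¹ ∈ WW := by
    have h1 : b⁻¹ * h * b * h⁻¹ ∈ KK := by
      refine mul_mem ?_ (inv_mem t.K)
      have := hKn.conj_mem h t.K b⁻¹
      rwa [inv_inv] at this
    refine S.KQ _ h1 ?_
    rw [← S.σker, map_mul, map_mul, map_mul, map_inv, map_inv]
    rw [mul_assoc (S.σ b)⁻¹, ← hcm, inv_mul_cancel_left, mul_inv_cancel]
  -- conjugation by `h` and `b` commute on `W`
  have key : ∀ w ∈ WW, h * (b * w * b⁻¹) * h⁻¹ = b * (h * w * h⁻¹) * b⁻¹ := by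
    intro w hw
    obtain ⟨u, hu⟩ : ∃ u, u = b⁻¹ * h * b * h⁻¹ := ⟨_, rfl⟩
    rw [← hu] at hW
    have h1 : h * b = b * (u * h) := by rw [hu]; group
    have h2 := conj_W h hw
    calc h * (b * w * b⁻¹) * h⁻¹ = (h * b) * w * (h * b)⁻¹ := by group
      _ = b * (u * (h * w * h⁻¹) * u⁻¹) * b⁻¹ := by rw [h1]; group
      _ = b * (h * w * h⁻¹) * b⁻¹ := by rw [W_comm S hW h2, mul_inv_cancel_right]
  intro w hw
  have hbw : b * w * b⁻¹ ∈ dd S h := by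
    obtain ⟨h1, h2⟩ := hw
    refine ⟨conj_W b h1, ?_⟩
    rw [key w h1, key _ (conj_W h h1)]
    have : b * w * b⁻¹ * (b * (h * w * h⁻¹) * b⁻¹) * (b * (h * (h * w * h⁻¹) * h⁻¹) * b⁻¹) =
        b * (w * (h * w * h⁻¹) * (h * (h * w * h⁻¹) * h⁻¹)) * b⁻¹ := by group
    rw [this, h2]; group
  have h3 : b * w * b⁻¹ = w := by
    refine t.ext hbw hw ?_ ?_
    · rw [Ψ_conj S b hw.1]
      congr 1
      rw [Equiv.Perm.inv_eq_iff_eq, hx]
    · rw [Ψ_conj S b hw.1]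
      congr 1
      rw [Equiv.Perm.inv_eq_iff_eq, hy]
  rw [mul_inv_eq_iff_eq_mul] at h3
  exact h3.symm

/-- `b` fixing the triple: `[W, b]` commutes with `h` -/
theorem Tri.comm_wb {b : P} (hx : S.σ b x = x) (hy : S.σ b y = y) (hz : S.σ b z = z) {w : P} (hw : w ∈ WW) :
    h * ⁅w, b⁆ = ⁅w, b⁆ * h := by
  have hKn := K_nor (P := P)
  obtain ⟨c, hc, d, hd, e1, e2, -⟩ := exists_cd S t.cube hw
  have hdb := t.comm_b hx hy hz d hd
  have e3 : ⁅w, b⁆ = c * (b * c⁻¹ * b⁻¹) := by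
    rw [e1, commutatorElement_def]
    calc c * d * b * (c * d)⁻¹ * b⁻¹ = c * (d * b) * d⁻¹ * c⁻¹ * b⁻¹ := by group
      _ = c * (b * d) * d⁻¹ * c⁻¹ * b⁻¹ := by rw [hdb]
      _ = _ := by group
  -- `h` commutes with `b c b⁻¹`
  have hcm : S.σ b * S.σ h = S.σ h * S.σ b := by
    ext1 u
    rw [Equiv.Perm.mul_apply, Equiv.Perm.mul_apply]
    by_cases h1 : u = x
    · rw [h1, t.sx, hx, t.sx, hz]
    by_cases h2 : u = y
    · rw [h2, t.sy, hy, t.sy, hx]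
    by_cases h3 : u = z
    · rw [h3, t.sz, hz, t.sz, hy]
    rw [t.so u h1 h2 h3, t.so]
    · intro h4; rw [← hx] at h4; exact h1 ((S.σ b).injective h4)
    · intro h4; rw [← hy] at h4; exact h2 ((S.σ b).injective h4)
    · intro h4; rw [← hz] at h4; exact h3 ((S.σ b).injective h4)
  have hW : b⁻¹ * h * b * h⁻¹ ∈ WW := by
    have h1 : b⁻¹ * h * b * h⁻¹ ∈ KK := by
      refine mul_mem ?_ (inv_mem t.K)
      have := hKn.conj_mem h t.K b⁻¹
      rwa [inv_inv] at this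
    refine S.KQ _ h1 ?_
    rw [← S.σker, map_mul, map_mul, map_mul, map_inv, map_inv]
    rw [mul_assoc (S.σ b)⁻¹, ← hcm, inv_mul_cancel_left, mul_inv_cancel]
  have key : ∀ w ∈ WW, h * (b * w * b⁻¹) * h⁻¹ = b * (h * w * h⁻¹) * b⁻¹ := by
    intro w hw
    obtain ⟨u, hu⟩ : ∃ u, u = b⁻¹ * h * b * h⁻¹ := ⟨_, rfl⟩
    rw [← hu] at hW
    have h1 : h * b = b * (u * h) := by rw [hu]; group
    have h2 := conj_W h hw
    calc h * (b * w * b⁻¹) * h⁻¹ = (h * b) * w * (h * b)⁻¹ := by group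
      _ = b * (u * (h * w * h⁻¹) * u⁻¹) * b⁻¹ := by rw [h1]; group
      _ = b * (h * w * h⁻¹) * b⁻¹ := by rw [W_comm S hW h2, mul_inv_cancel_right]
  have h1 := key c hc
  rw [e2] at h1
  have h2 : h * (c * (b * c⁻¹ * b⁻¹)) * h⁻¹ = c * (b * c⁻¹ * b⁻¹) := by
    calc h * (c * (b * c⁻¹ * b⁻¹)) * h⁻¹ = (h * c * h⁻¹) * (h * (b * c * b⁻¹) * h⁻¹)⁻¹ := by group
      _ = c * (b * c * b⁻¹)⁻¹ := by rw [e2, h1]
      _ = _ := by group
  rw [e3]
  exact mul_inv_eq_iff_eq_mul.1 h2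

end tri

end Cfsg.Agent.H276.HM
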