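import Cfsg.Agent.H276.HM.SymA

/-!
# S5175, symmetric blocks: consequences of `Full`
-/

set_option autoImplicit false
set_option linter.unusedSectionVars false
set_option linter.unusedVariables false

namespace Cfsg.Agent.H276.HM

open Subgroup Cfsg Cfsg.Agent.H756.HM Cfsg.Agent.H41.HM
open scoped commutatorElement

variable {P : Type*} [Group P] {T : Subgroup P} {I : Type} {n : ℕ} {S : Sy T I n}

local notation "QQ" => pCore 2 P
local notation "KK" => pResidual 2 P
local notation "WW" => (⁅pCore 2 P, pResidual 2 P⁆ : Subgroup P)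

/-- `x` is moved by `X` -/
def Mv (S : Sy T I n) (X : Subgroup P) (x : I × Fin n) : Prop := ∃ a ∈ X, S.σ a x ≠ x

open Classical in
/-- the partner of a point -/
noncomputable def pr (S : Sy T I n) (X : Subgroup P) (x : I × Fin n) : I × Fin n :=
  if h : ∃ a ∈ X, S.σ a x ≠ x then S.σ h.choose x else x

section

variable {X : Subgroup P} (hX : Offd T X) (h : Full S X)

include hX in
theorem sq1 {a : P} (ha : a ∈ X) (x : I × Fin n) : S.σ a (S.σ a x) = x := by
  have h1 : S.σ (a * a) = 1 := by rw [← pow_two, hX.sq a ha, map_one]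
  rw [map_mul] at h1
  have h2 := congrArg (fun s : Equiv.Perm (I × Fin n) => s x) h1
  exact h2

include h in
theorem pr_eq {a : P} (ha : a ∈ X) {x : I × Fin n} (hx : S.σ a x ≠ x) : S.σ a x = pr S X x := by
  have h1 : ∃ a ∈ X, S.σ a x ≠ x := ⟨a, ha, hx⟩
  unfold pr
  rw [dif_pos h1]
  exact h.orb a ha _ h1.choose_spec.1 x hx h1.choose_spec.2

include h in
theorem or_pr {a : P} (ha : a ∈ X) (x : I × Fin n) : S.σ a x = x ∨ S.σ a x = pr S X x := by
  by_cases hx : S.σ a x = x
  · exact Or.inl hx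
  · exact Or.inr (pr_eq h ha hx)

include h in
theorem pr_ne {x : I × Fin n} (hx : Mv S X x) : pr S X x ≠ x := by
  obtain ⟨a, ha, hax⟩ := hx
  rw [← pr_eq h ha hax]; exact hax

include hX h in
theorem mv_pr {x : I × Fin n} (hx : Mv S X x) : Mv S X (pr S X x) := by
  obtain ⟨a, ha, hax⟩ := hx
  refine ⟨a, ha, ?_⟩
  rw [← pr_eq h ha hax, sq1 hX ha]
  exact hax.symm

include hX h in
theorem pr_pr {x : I × Fin n} (hx : Mv S X x) : pr S X (pr S X x) = x := by
  obtain ⟨a, ha, hax⟩ := hx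
  have h1 : S.σ a (pr S X x) ≠ pr S X x := by
    rw [← pr_eq h ha hax, sq1 hX ha]
    exact hax.symm
  rw [← pr_eq h ha h1, ← pr_eq h ha hax, sq1 hX ha]

include h in
theorem pr_blk {x : I × Fin n} (hx : Mv S X x) : (pr S X x).1 = x.1 := by
  obtain ⟨a, ha, hax⟩ := hx
  rw [← pr_eq h ha hax]
  exact h.fixb a ha x

theorem not_mv {x : I × Fin n} (hx : ¬ Mv S X x) {a : P} (ha : a ∈ X) : S.σ a x = x := by
  by_contra hcon
  exact hx ⟨a, ha, hcon⟩

include hX h in
/-- the swaps are in `σ(X)` -/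
theorem exists_swap [DecidableEq I] {x : I × Fin n} (hx : Mv S X x) : ∃ a ∈ X, S.σ a = Equiv.swap x (pr S X x) := by
  refine h.full _ fun u => ?_
  by_cases h1 : u = x
  · obtain ⟨a, ha, hax⟩ := hx
    refine ⟨a, ha, ?_⟩
    rw [h1, Equiv.swap_apply_left, pr_eq h ha hax]
  by_cases h2 : u = pr S X x
  · obtain ⟨a, ha, hax⟩ := hx
    refine ⟨a, ha, ?_⟩
    rw [h2, Equiv.swap_apply_right, ← pr_eq h ha hax, sq1 hX ha]
  · refine ⟨1, one_mem _, ?_⟩
    rw [Equiv.swap_apply_of_ne_of_ne h1 h2, map_one]; rfl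

include h in
/-- the fixed points -/
theorem exists_ff : ∃ f : I → Fin n, ∀ x : I × Fin n, ¬ Mv S X x ↔ x = (x.1, f x.1) := by
  obtain ⟨f, hf⟩ := h.fp
  refine ⟨f, fun x => ?_⟩
  have h1 := hf x.1 x.2
  constructor
  · intro hx
    have h2 := h1.1 fun a ha => not_mv hx ha
    exact Prod.ext rfl h2
  · rintro hx ⟨a, ha, hax⟩
    have h2 : x.2 = f x.1 := congrArg Prod.snd hx
    exact hax (h1.2 h2 a ha)

/-- `T₀` -/
theorem mem_T0 {t : P} : t ∈ X ⊔ QQ ↔ ∃ a ∈ X, S.σ t = S.σ a := by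
  have hQ := Q_nor (P := P)
  constructor
  · intro ht
    rw [Subgroup.mem_sup_of_normal_right] at ht
    obtain ⟨a, ha, q, hq, rfl⟩ := ht
    exact ⟨a, ha, by rw [map_mul, (S.σker q).2 hq, mul_one]⟩
  · rintro ⟨a, ha, hta⟩
    have h1 : a⁻¹ * t ∈ QQ := by
      rw [← S.σker, map_mul, map_inv, hta, inv_mul_cancel]
    rw [← mul_inv_cancel_left a t]
    exact mul_mem (mem_sup_left ha) (mem_sup_right h1)

include h in
theorem cen0 {w : P} (hw : w ∈ WW) (h1 : ∀ x, Mv S X x → S.Ψ w x = S.Ψ w (pr S X x)) :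
    w ∈ centralizer ((X ⊔ QQ : Subgroup P) : Set P) := by
  have h2 : X ⊔ QQ ≤ centralizer ({w} : Set P) := by
    refine sup_le ?_ ?_
    · intro a ha
      rw [mem_centralizer_singleton_iff]
      refine (h.cen w hw (fun a ha x => ?_) a ha).symm
      by_cases hx : S.σ a x = x
      · rw [hx]
      · rw [pr_eq h ha hx]
        exact (h1 x ⟨a, ha, hx⟩).symm
    · intro q hq
      rw [mem_centralizer_singleton_iff]
      exact (S.bw.W_comm w hw q hq).symm
  intro t ht
  exact mem_centralizer_singleton_iff.1 (h2 ht)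

include h in
theorem cenK {w : P} (hw : w ∈ WW ⊓ centralizer (KK : Set P)) : w ∈ centralizer ((X ⊔ QQ : Subgroup P) : Set P) := by
  refine cen0 h hw.1 fun x _ => ?_
  rw [(S.ker w hw.1).2 hw.2]; rfl

/-- generation of `W` -/
theorem gen [DecidableEq I] {f : I → Fin n} (hf : ∀ x : I × Fin n, ¬ Mv S X x ↔ x = (x.1, f x.1)) {L : Subgroup P}
    (h1 : WW ⊓ centralizer (KK : Set P) ≤ L)
    (h2 : ∀ x, Mv S X x → ∃ w ∈ L, w ∈ WW ∧ S.Ψ w = SBl.ee x (x.1, f x.1)) : WW ≤ L := by
  have := S.fin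
  have key : ∀ (m : ℕ) (w : P), w ∈ WW → {u | S.Ψ w u ≠ 0 ∧ Mv S X u}.ncard ≤ m → w ∈ L := by
    intro m
    induction m with
    | zero =>
      intro w hw hm
      have h3 : {u | S.Ψ w u ≠ 0 ∧ Mv S X u} = ∅ := by
        rw [← Set.ncard_eq_zero (Set.toFinite _)]; omega
      have h4 : ∀ u, Mv S X u → S.Ψ w u = 0 := by
        intro u hu
        by_contra hcon
        have : u ∈ ({u | S.Ψ w u ≠ 0 ∧ Mv S X u} : Set (I × Fin n)) := ⟨hcon, hu⟩
        rw [h3] at this
        exact this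
      refine h1 ⟨hw, (S.ker w hw).1 ?_⟩
      funext u
      by_cases hu : Mv S X u
      · exact h4 u hu
      · have h5 := (hf u).1 hu
        have h6 := S.even w hw u.1
        rw [Finset.sum_eq_single (f u.1)] at h6
        · rw [h5]; exact h6
        · intro k _ hk
          apply h4
          by_contra hcon
          have := (hf _).1 hcon
          exact hk (congrArg Prod.snd this)
        · intro hcon; exact absurd (Finset.mem_univ _) hcon
    | succ m ih =>
      intro w hw hm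
      by_cases he : ∃ x, S.Ψ w x ≠ 0 ∧ Mv S X x
      · obtain ⟨x, hx0, hx⟩ := he
        obtain ⟨d, hdL, hdW, hd⟩ := h2 x hx
        have hx1 : S.Ψ w x = 1 := (z2'' _).resolve_left hx0
        have hne : x ≠ (x.1, f x.1) := fun e => (hf x).2 e hx
        have h3 : w * d ∈ L := by
          refine ih _ (mul_mem hw hdW) ?_
          have h4 : {u | S.Ψ (w * d) u ≠ 0 ∧ Mv S X u} ⊆ {u | S.Ψ w u ≠ 0 ∧ Mv S X u} \ {x} := by
            rintro u ⟨hu1, hu2⟩
            have hu3 : u ≠ (x.1, f x.1) := by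
              intro e
              refine (hf u).2 ?_ hu2
              rw [e]
            rw [S.mul w hw d hdW, Pi.add_apply, hd] at hu1
            unfold SBl.ee at hu1
            rw [if_neg hu3, add_zero] at hu1
            by_cases hux : u = x
            · exfalso
              apply hu1
              rw [if_pos hux, hux, hx1]; rfl
            · rw [if_neg hux, add_zero] at hu1
              exact ⟨⟨hu1, hu2⟩, hux⟩
          have h5 := Set.ncard_le_ncard h4 (Set.toFinite _)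
          have h6 := Set.ncard_sdiff_singleton_add_one (s := {u | S.Ψ w u ≠ 0 ∧ Mv S X u}) (a := x) ⟨hx0, hx⟩
            (Set.toFinite _)
          omega
        have h4 : w = w * d * d := by
          have h5 : d * d = 1 := W_sq S hdW
          rw [mul_assoc, h5, mul_one]
        rw [h4]
        exact mul_mem h3 hdL
      · refine ih w hw ?_
        have h3 : {u | S.Ψ w u ≠ 0 ∧ Mv S X u} = ∅ := by
          rw [Set.eq_empty_iff_forall_notMem]
          intro u hu
          exact he ⟨u, hu⟩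
        rw [h3, Set.ncard_empty]; omega
  intro w hw
  exact key _ w hw le_rfl

end

/-! ### the 3-cycles -/

/-- an element of order three acting as the 3-cycle `x → z → y → x` -/
theorem exists_tri [DecidableEq I] {x y z : I × Fin n} (h1 : x ≠ y) (h2 : x ≠ z) (h3 : y ≠ z) (b1 : x.1 = y.1)
    (b2 : x.1 = z.1) : ∃ g, Tri S g x y z := by
  obtain ⟨i, k⟩ := x
  obtain ⟨i', k'⟩ := y
  obtain ⟨i'', l⟩ := z
  simp only at b1 b2
  subst b1
  subst b2
  have e1 : k ≠ k' := fun e => h1 (by rw [e])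
  have e2 : k ≠ l := fun e => h2 (by rw [e])
  have e3 : k' ≠ l := fun e => h3 (by rw [e])
  obtain ⟨π, hπ⟩ : ∃ π, π = Equiv.swap k k' * Equiv.swap k l := ⟨_, rfl⟩
  have hπa : π ∈ alternatingGroup (Fin n) := by
    rw [Equiv.Perm.mem_alternatingGroup, hπ, Equiv.Perm.sign_mul, Equiv.Perm.sign_swap e1, Equiv.Perm.sign_swap e2]
    rfl
  have p1 : π k = l := by
    rw [hπ, Equiv.Perm.mul_apply, Equiv.swap_apply_left, Equiv.swap_apply_of_ne_of_ne e2.symm e3.symm]
  have p2 : π l = k' := by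
    rw [hπ, Equiv.Perm.mul_apply, Equiv.swap_apply_right, Equiv.swap_apply_left]
  have p3 : π k' = k := by
    rw [hπ, Equiv.Perm.mul_apply, Equiv.swap_apply_of_ne_of_ne e1.symm e3, Equiv.swap_apply_right]
  have p4 : ∀ m, m ≠ k → m ≠ k' → m ≠ l → π m = m := by
    intro m m1 m2 m3
    rw [hπ, Equiv.Perm.mul_apply, Equiv.swap_apply_of_ne_of_ne m1 m3, Equiv.swap_apply_of_ne_of_ne m1 m2]
  obtain ⟨e, heK, hei, hej⟩ := S.alt i π hπa
  have q1 : S.σ e (i, k) = (i, l) := by rw [hei, p1]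
  have q2 : S.σ e (i, l) = (i, k') := by rw [hei, p2]
  have q3 : S.σ e (i, k') = (i, k) := by rw [hei, p3]
  have q4 : ∀ u : I × Fin n, u ≠ (i, k) → u ≠ (i, k') → u ≠ (i, l) → S.σ e u = u := by
    rintro ⟨j, m⟩ m1 m2 m3
    by_cases hj : j = i
    · subst hj
      rw [hei, p4 m (fun e => m1 (by rw [e])) (fun e => m2 (by rw [e])) (fun e => m3 (by rw [e]))]
    · exact hej j hj m
  have hcube : S.σ e * S.σ e * S.σ e = 1 := by
    ext1 u
    rw [Equiv.Perm.mul_apply, Equiv.Perm.mul_apply, Equiv.Perm.one_apply]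
    by_cases u1 : u = (i, k)
    · rw [u1, q1, q2, q3]
    by_cases u2 : u = (i, k')
    · rw [u2, q3, q1, q2]
    by_cases u3 : u = (i, l)
    · rw [u3, q2, q3, q1]
    rw [q4 u u1 u2 u3, q4 u u1 u2 u3, q4 u u1 u2 u3]
  have h6 : (e * e * e) * (e * e * e) = 1 := by
    apply W_sq S
    refine S.KQ _ (mul_mem (mul_mem heK heK) heK) ?_
    rw [← S.σker, map_mul, map_mul]
    exact hcube
  obtain ⟨g, hg⟩ : ∃ g, g = e * e * e * e := ⟨_, rfl⟩
  have hσ : S.σ g = S.σ e := by
    rw [hg, map_mul, map_mul, map_mul, hcube, one_mul]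
  refine ⟨g, ⟨?_, ?_, h1, h2, h3, rfl, rfl, ?_, ?_, ?_, ?_⟩⟩
  · rw [hg]; exact mul_mem (mul_mem (mul_mem heK heK) heK) heK
  · rw [hg]
    calc e * e * e * e * (e * e * e * e) * (e * e * e * e) = ((e * e * e) * (e * e * e)) * ((e * e * e) * (e * e * e)) := by
          group
      _ = 1 := by rw [h6, one_mul]
  · rw [hσ, q1]
  · rw [hσ, q2]
  · rw [hσ, q3]
  · rw [hσ]; exact q4

end Cfsg.Agent.H276.HM
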